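import Cfsg.Agent.Frobenius.Basic
import Cfsg.Agent.FPFNilpotent.Main
import Cfsg.Agent.Chars.Apps.FrobeniusKernel

/-!
# A subgroup that is malnormal modulo the centre

If `M` contains the centre `Z` and meets a conjugate by an element outside `M` only in `Z`, then
`M / Z` is a Frobenius complement, so there is a solvable normal subgroup meeting `M` in `Z` with
`K M = G` (Frobenius, Thompson).
-/

set_option autoImplicit false

namespace CfsgLib.CentralMalnormal

universe u

variable {G : Type u} [Group G] [Finite G]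

/-- The Frobenius kernel over the centre. -/
theorem exists_solvable_kernel (M : Subgroup G) (hZM : Subgroup.center G ≤ M)
    (hne : ¬ M ≤ Subgroup.center G) (htop : M ≠ ⊤)
    (hmal : ∀ g c : G, c ∈ M → c ∉ Subgroup.center G → g * c * g⁻¹ ∈ M → g ∈ M) :
    ∃ K : Subgroup G, K.Normal ∧ Group.IsSolvable K ∧ K ⊓ M = Subgroup.center G ∧ K ⊔ M = ⊤ := by
  set Z := Subgroup.center G with hZ
  let π := QuotientGroup.mk' Z
  have hπ : Function.Surjective π := QuotientGroup.mk'_surjective Z
  have hker : π.ker = Z := QuotientGroup.ker_mk' Z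
  have hcomap : (M.map π).comap π = M := Subgroup.comap_map_eq_self (hker.trans_le hZM)
  have hTI : ∀ g h : G ⧸ Z, h ∈ M.map π → h ≠ 1 → g * h * g⁻¹ ∈ M.map π → g ∈ M.map π := by
    rintro g h ⟨c, hc, rfl⟩ h1 hgc
    obtain ⟨g, rfl⟩ := hπ g
    refine Subgroup.mem_map_of_mem π (hmal g c hc (fun hcz => h1 ((QuotientGroup.eq_one_iff c).mpr hcz)) ?_)
    rw [← map_inv, ← map_mul, ← map_mul] at hgc
    rw [← hcomap]
    exact hgc
  have hH : Cfsg.IsFrobeniusComplement (M.map π) := by
    refine CfsgLib.Frobenius.isFrobeniusComplement_iff.mpr ⟨fun h => hne ?_, fun h => htop ?_, hTI⟩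
    · rw [Subgroup.map_eq_bot_iff, hker] at h
      exact h
    · rw [← hcomap, h, Subgroup.comap_top]
  obtain ⟨N, hN, hNn, hNnil⟩ := CfsgLib.FPFNilpotent.frobenius_kernel_isNilpotent
    CfsgLib.FPFNilpotent.criterion (M.map π) hH
  obtain ⟨N', -, hN', -, hinf, hcompl⟩ := CfsgLib.Chars.Apps.frobenius_kernel_theorem hH
  have hNN' : N = N' := SetLike.coe_injective (hN.trans hN'.symm)
  subst hNN'
  have hKn : (N.comap π).Normal := hNn.comap π
  refine ⟨N.comap π, hKn, ?_, ?_, ?_⟩
  · haveI := hNnil
    have hle : ∀ z : (Z : Subgroup G), π z = 1 := fun z => (QuotientGroup.eq_one_iff _).mpr z.2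
    haveI : Group.IsSolvable Z :=
      Group.isSolvable_of_comm fun a b => Subtype.ext (Subgroup.mem_center_iff.mp b.2 a)
    let f : (Z : Subgroup G) →* (N.comap π : Subgroup G) :=
      Subgroup.inclusion (fun z hz => show π z ∈ N by
        rw [show π z = 1 from hle ⟨z, hz⟩]; exact one_mem _)
    let g : (N.comap π : Subgroup G) →* N :=
      (π.comp (N.comap π).subtype).codRestrict N fun x => x.2
    refine Group.isSolvable_of_ker_le_range f g fun x hx => ?_
    have h1 : π (x : G) = 1 := congrArg Subtype.val hx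
    exact ⟨⟨x, (QuotientGroup.eq_one_iff _).mp h1⟩, Subtype.ext rfl⟩
  · refine le_antisymm (fun x hx => ?_) (le_inf ?_ hZM)
    · have h1 : π x ∈ N ⊓ M.map π := ⟨hx.1, Subgroup.mem_map_of_mem π hx.2⟩
      rw [hinf, Subgroup.mem_bot] at h1
      exact (QuotientGroup.eq_one_iff x).mp h1
    · exact hker.symm.trans_le (Subgroup.ker_le_comap π N)
  · calc N.comap π ⊔ M = N.comap π ⊔ (M.map π).comap π := by rw [hcomap]
      _ = (N ⊔ M.map π).comap π := Subgroup.comap_sup_eq π N (M.map π) hπ
      _ = ⊤ := by rw [hcompl.sup_eq_top, Subgroup.comap_top]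

/-- A subgroup `A` which is central in every proper subgroup containing it has `C(A)` malnormal
modulo the centre, unless `C(A)` is normal. -/
theorem mem_normalizer_of_conj_mem (A : Subgroup G)
    (hmax : ∀ H : Subgroup G, H ≠ ⊤ → A ≤ H → H ≤ Subgroup.centralizer (A : Set G))
    (htop : Subgroup.centralizer (A : Set G) ≠ ⊤) {g c : G}
    (hc : c ∈ Subgroup.centralizer (A : Set G)) (hcz : c ∉ Subgroup.center G)
    (hgc : g * c * g⁻¹ ∈ Subgroup.centralizer (A : Set G)) :
    g ∈ Subgroup.normalizer (Subgroup.centralizer (A : Set G) : Set G) := by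
  set M := Subgroup.centralizer (A : Set G) with hM
  have hA : ∀ y ∈ M, y ∉ Subgroup.center G → Subgroup.centralizer ({y} : Set G) ≤ M := by
    intro y hy hyz
    refine hmax _ (fun e => hyz (Subgroup.mem_center_iff.mpr fun x => ?_)) fun a ha => ?_
    · exact Subgroup.mem_centralizer_singleton_iff.mp (e ▸ Subgroup.mem_top x)
    · exact Subgroup.mem_centralizer_singleton_iff.mpr (Subgroup.mem_centralizer_iff.mp hy a ha)
  -- `g⁻¹ a g` commutes with `c`, so lies in `M`
  have h1 : ∀ a ∈ A, g⁻¹ * a * g ∈ M := fun a ha => hA c hc hcz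
    (Subgroup.mem_centralizer_singleton_iff.mpr (by
      have h := Subgroup.mem_centralizer_iff.mp hgc a ha
      calc g⁻¹ * a * g * c = g⁻¹ * (a * (g * c * g⁻¹)) * g := by group
        _ = g⁻¹ * (g * c * g⁻¹ * a) * g := by rw [h]
        _ = c * (g⁻¹ * a * g) := by group))
  -- so `g M g⁻¹` is a proper subgroup over `A`
  have h2 : A ≤ M.map (MulAut.conj g).toMonoidHom := fun a ha =>
    ⟨g⁻¹ * a * g, h1 a ha, by simp [mul_assoc]⟩
  have h3 : M.map (MulAut.conj g).toMonoidHom ≠ ⊤ := fun e => htop (by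
    apply Subgroup.map_injective (f := (MulAut.conj g).toMonoidHom) (MulAut.conj g).injective
    rw [Subgroup.map_top_of_surjective _ (MulAut.conj g).surjective]
    exact e)
  refine Subgroup.mem_normalizer_iff_map_conj_eq.mpr ?_
  exact Subgroup.eq_of_le_of_card_ge (hmax _ h3 h2)
    (Subgroup.card_map_of_injective (MulAut.conj g).injective).ge

end CfsgLib.CentralMalnormal
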